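import Groth.Agent.GaQuot.Main
import Groth.Agent.GaFix.GaGm
import Groth.Agent.GrpSchLib.HomClosedRange
import Groth.Agent.GrpSchLib.AdjointQuot
import Groth.Agent.S7782
import Groth.Prelude.Def_GmPts
import Mathlib.AlgebraicGeometry.Morphisms.FlatRank

/-! A smooth connected group isogenous onto `𝔾ₘ` is `𝔾ₘ`. -/

set_option autoImplicit false

set_option linter.style.haveILetI false
set_option maxHeartbeats 1000000

universe u

open CategoryTheory Limits AlgebraicGeometry MonoidalCategory CartesianMonoidalCategory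
open scoped MonObj

namespace Groth.Agent.GaQuot

open GaExt GrpSchLib

variable {k : Type u} [Field k]

local notation "G₁" => Red.Gm (Spec (CommRingCat.of k))

/-- A monic polynomial with invertible roots stable under multiplication. -/
theorem eq_X_pow_sub_one (P : Polynomial k) (hP : P.Monic) (hn : 0 < P.natDegree) (h0 : IsUnit (AdjoinRoot.root P))
    (h : ∀ (A : Type u) [CommRing A] [Algebra k A] (a b : A), IsUnit a → IsUnit b →
      Polynomial.aeval a P = 0 → Polynomial.aeval b P = 0 → Polynomial.aeval (a * b) P = 0) :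
    P = Polynomial.X ^ P.natDegree - 1 := by
  classical
  let n := P.natDegree
  let B := AdjoinRoot P
  let x : B := AdjoinRoot.root P
  let PB : Polynomial B := P.map (algebraMap k B)
  haveI : Nontrivial B := AdjoinRoot.nontrivial P (fun hd => hn.ne' (Polynomial.natDegree_eq_zero_iff_degree_le_zero.mpr hd.le))
  have hPB : PB.Monic := hP.map _
  have hdeg : PB.natDegree = n := hP.natDegree_map _
  have hcoeff : P.coeff 0 ≠ 0 := by
    intro hc
    obtain ⟨Q, hQ⟩ := Polynomial.X_dvd_iff.mpr hc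
    have hQ0 : Q ≠ 0 := fun e => hP.ne_zero (by rw [hQ, e, mul_zero])
    have hQn : Q.natDegree < n := by
      show Q.natDegree < P.natDegree
      rw [hQ, Polynomial.natDegree_X_mul hQ0]
      exact Nat.lt_succ_self _
    have : AdjoinRoot.mk P Q = 0 := by
      refine h0.mul_right_eq_zero.mp ?_
      rw [← AdjoinRoot.mk_X, ← map_mul, ← hQ, AdjoinRoot.mk_self]
    exact hQ0 (Polynomial.eq_zero_of_dvd_of_natDegree_lt (AdjoinRoot.mk_eq_zero.mp this) hQn)
  -- substitute `x * Y`
  let R : Polynomial B := PB.comp (Polynomial.C x * Polynomial.X)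
  have hR : PB ∣ R := by
    rw [← AdjoinRoot.mk_eq_zero, ← AdjoinRoot.aeval_eq]
    simp only [R, PB, Polynomial.aeval_comp, map_mul, Polynomial.aeval_C, Polynomial.aeval_X,
      Polynomial.aeval_map_algebraMap]
    have hy : Polynomial.aeval (AdjoinRoot.root PB) P = 0 := by
      have := (AdjoinRoot.aeval_eq (R := B) (f := PB) PB).trans AdjoinRoot.mk_self
      rwa [Polynomial.aeval_map_algebraMap] at this
    have hyu : IsUnit (AdjoinRoot.root PB) := by
      obtain ⟨Q, hQ⟩ := Polynomial.X_dvd_iff.mpr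
        (show (P - Polynomial.C (P.coeff 0)).coeff 0 = 0 by simp)
      have he : AdjoinRoot.root PB * Polynomial.aeval (AdjoinRoot.root PB) Q =
          -(algebraMap k (AdjoinRoot PB) (P.coeff 0)) := by
        have := congrArg (Polynomial.aeval (AdjoinRoot.root PB)) hQ
        rw [map_sub, hy, zero_sub, Polynomial.aeval_C, map_mul, Polynomial.aeval_X] at this
        exact this.symm
      exact isUnit_of_mul_isUnit_left (he ▸ ((isUnit_iff_ne_zero.mpr hcoeff).map _).neg)
    refine h _ _ _ (h0.map _) hyu ?_ hy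
    rw [Polynomial.aeval_algebraMap_apply, AdjoinRoot.aeval_eq, AdjoinRoot.mk_self, map_zero]
  have hRn : R.natDegree ≤ n := by
    refine Polynomial.natDegree_comp_le.trans ?_
    rw [hdeg]
    calc n * (Polynomial.C x * Polynomial.X).natDegree ≤ n * 1 :=
          Nat.mul_le_mul_left _ ((Polynomial.natDegree_C_mul_le x _).trans Polynomial.natDegree_X_le)
      _ = n := mul_one n
  have hRc : ∀ j, R.coeff j = algebraMap k B (P.coeff j) * x ^ j := by
    intro j
    simp only [R, Polynomial.comp_C_mul_X_coeff, PB, Polynomial.coeff_map]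
  have he := Polynomial.eq_mul_leadingCoeff_of_monic_of_dvd_of_natDegree_le hPB hR (hdeg.symm ▸ hRn)
  have hl : R.leadingCoeff = x ^ n := by
    have := congrArg (fun Q => Polynomial.coeff Q n) he
    simp only [Polynomial.coeff_C_mul, Polynomial.coeff_mul_C] at this
    rw [hRc, show P.coeff n = 1 from hP.coeff_natDegree, map_one, one_mul, ← hdeg, hPB.coeff_natDegree] at this
    simpa [hdeg] using this.symm
  have h1 := congrArg (fun Q => Polynomial.coeff Q 0) he
  simp only [Polynomial.coeff_C_mul, Polynomial.coeff_mul_C] at h1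
  rw [hRc, pow_zero, mul_one, hl, Polynomial.coeff_map] at h1
  have hx : x ^ n = 1 := by
    have hu : IsUnit (algebraMap k B (P.coeff 0)) := (isUnit_iff_ne_zero.mpr hcoeff).map _
    apply hu.mul_left_cancel
    rw [mul_one]
    first | exact h1.symm | (rw [mul_comm]; exact h1.symm)
  have h2 : P ∣ Polynomial.X ^ n - 1 := by
    rw [← AdjoinRoot.mk_eq_zero, map_sub, map_pow, AdjoinRoot.mk_X, map_one, sub_eq_zero]
    exact hx
  have hXm : (Polynomial.X ^ n - 1 : Polynomial k).Monic := by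
    simpa using Polynomial.monic_X_pow_sub_C (1 : k) hn.ne'
  have hXd : (Polynomial.X ^ n - 1 : Polynomial k).natDegree = n := by
    simpa using Polynomial.natDegree_X_pow_sub_C (n := n) (r := (1 : k))
  exact (Polynomial.eq_of_monic_of_dvd_of_natDegree_le hP hXm h2 hXd.le).symm

/-- The line without origin. -/
theorem nonempty_Gm_iso :
    ∃ e : G₁ ≅ GaExt.Ch (cR k) (LaurentPolynomial k),
      Red.gmFn e.inv = toFn k (LaurentPolynomial k) (LaurentPolynomial.T 1) := by
  let uT : Γ((GaExt.Ch (cR k) (LaurentPolynomial k)).left, ⊤)ˣ :=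
    ((LaurentPolynomial.isUnit_T (R := k) 1).map (toFn k (LaurentPolynomial k))).unit
  let φ : LaurentPolynomial k →+* Γ((G₁).left, ⊤) :=
    LaurentPolynomial.eval₂ (stFn k G₁) (GmPts.unitOfPt (𝟙 G₁))
  obtain ⟨m, -, hm⟩ := exists_toCh (cR k) (LaurentPolynomial k)
    (Over.homMk (G₁).hom (Category.comp_id _) : G₁ ⟶ Over.mk (cR k)) φ
    (RingHom.ext fun r => LaurentPolynomial.eval₂_C _ _ r)
  have h1 : m ≫ GmPts.ptOfUnit uT = 𝟙 _ := by
    refine GmPts.gmFn_injective ?_
    show Red.gmFn _ = Red.gmFn _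
    rw [GmPts.gmFn_comp, GmPts.gmFn_ptOfUnit, IsUnit.unit_spec]
    refine (RingHom.congr_fun hm (LaurentPolynomial.T 1)).trans ?_
    rw [LaurentPolynomial.eval₂_T, zpow_one]
    rfl
  have h2 : GmPts.ptOfUnit uT ≫ m = 𝟙 _ := by
    apply toCh_ext (cR k)
    haveI := LaurentPolynomial.isLocalization (R := k)
    refine IsLocalization.ringHom_ext (Submonoid.powers (Polynomial.X : Polynomial k))
      (Polynomial.ringHom_ext (fun r => ?_) ?_)
    · have hC : algebraMap (Polynomial k) (LaurentPolynomial k) (Polynomial.C r) = algebraMap k _ r := by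
        simp
      simp only [RingHom.comp_apply]
      erw [hC]
      show (GmPts.ptOfUnit uT ≫ m).left.appTop (toFn k _ (algebraMap k _ r)) =
        (𝟙 (GaExt.Ch (cR k) (LaurentPolynomial k)) : _ ⟶ _).left.appTop (toFn k _ (algebraMap k _ r))
      rw [← stFn_ch, stFn_res, stFn_res]
    · have hX : algebraMap (Polynomial k) (LaurentPolynomial k) Polynomial.X = LaurentPolynomial.T 1 := by
        simp
      simp only [RingHom.comp_apply]
      erw [hX]
      show (GmPts.ptOfUnit uT ≫ m).left.appTop (toFn k _ (LaurentPolynomial.T 1)) =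
        (𝟙 (GaExt.Ch (cR k) (LaurentPolynomial k)) : _ ⟶ _).left.appTop (toFn k _ (LaurentPolynomial.T 1))
      have e : toFn k _ (LaurentPolynomial.T 1) = Red.gmFn (GmPts.ptOfUnit uT) := by
        rw [GmPts.gmFn_ptOfUnit, IsUnit.unit_spec]
      rw [e, ← GmPts.gmFn_comp, ← GmPts.gmFn_comp, Category.assoc, h1, Category.comp_id, Category.id_comp]
  refine ⟨⟨m, GmPts.ptOfUnit uT, h1, h2⟩, ?_⟩
  show Red.gmFn (GmPts.ptOfUnit uT) = _
  rw [GmPts.gmFn_ptOfUnit, IsUnit.unit_spec]

/-- A finite subscheme of `𝔾ₘ` is cut out by a monic polynomial. -/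
theorem exists_poly_gm {N : Over (Spec (CommRingCat.of k))} (j : N ⟶ G₁) [IsClosedImmersion j.left] [IsFinite N.hom] :
    ∃ P : Polynomial k, P.Monic ∧ (∀ (T : Over (Spec (CommRingCat.of k))) (x : T ⟶ G₁),
      (∃ n : T ⟶ N, n ≫ j = x) ↔ ev P T (Red.gmFn x) = 0) ∧
      ∀ (T : Over (Spec (CommRingCat.of k))) (v : Γ(T.left, ⊤)), ev P T v = 0 → IsUnit v := by
  obtain ⟨e, he⟩ := nonempty_Gm_iso (k := k)
  let j' : N ⟶ Red.Ga (Spec (CommRingCat.of k)) := GaPts.ptOfFn (Red.gmFn j)
  haveI : Mono j := (Over.forget _).mono_of_mono_map (inferInstanceAs (Mono j.left))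
  have hj' : ∀ {T : Over (Spec (CommRingCat.of k))} (n : T ⟶ N), Red.gaFn (n ≫ j') = Red.gmFn (n ≫ j) := by
    intro T n
    rw [GaPts.gaFn_comp, GaPts.gaFn_ptOfFn, GmPts.gmFn_comp]
  haveI : Mono j' := ⟨fun a b h => by
    rw [← cancel_mono j]
    refine GmPts.gmFn_injective ?_
    show Red.gmFn _ = Red.gmFn _
    rw [← hj', ← hj', h]⟩
  haveI : IsClosedImmersion j'.left := by
    haveI : IsAffine (Red.Ga (Spec (CommRingCat.of k))).left := by
      obtain ⟨e₀⟩ := nonempty_Ga_iso k
      haveI : IsAffine (GaExt.Ch (cR k) (Polynomial k)).left :=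
        inferInstanceAs (IsAffine (Spec (CommRingCat.of (Polynomial k))))
      haveI : IsIso e₀.hom.left := inferInstanceAs (IsIso ((Over.forget _).map e₀.hom))
      exact .of_isIso e₀.hom.left
    haveI : IsSeparated (Red.Ga (Spec (CommRingCat.of k))).hom := inferInstance
    haveI : IsProper (j'.left ≫ (Red.Ga (Spec (CommRingCat.of k))).hom) := by rw [Over.w j']; infer_instance
    haveI : IsProper j'.left := IsProper.of_comp j'.left (Red.Ga (Spec (CommRingCat.of k))).hom
    haveI : Mono j'.left := (Over.forget _).map_mono j'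
    exact (IsClosedImmersion.iff_isProper_and_mono j'.left).mpr ⟨inferInstance, inferInstance⟩
  obtain ⟨P, hP, h⟩ := exists_poly j'
  refine ⟨P, hP, fun T x => ?_, fun T v hv => ?_⟩
  swap
  · rw [← GaPts.gaFn_ptOfFn (S := Spec (CommRingCat.of k)) v, ← h T] at hv
    obtain ⟨n, hn⟩ := hv
    rw [← GaPts.gaFn_ptOfFn (S := Spec (CommRingCat.of k)) v, ← hn, hj']
    exact GmPts.isUnit_gmFn _
  rw [← GaPts.gaFn_ptOfFn (S := Spec (CommRingCat.of k)) (Red.gmFn x), ← h T]
  constructor
  · rintro ⟨n, rfl⟩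
    refine ⟨n, GaPts.gaFn_injective ?_⟩
    show Red.gaFn _ = Red.gaFn _
    rw [hj', GaPts.gaFn_ptOfFn]
  · rintro ⟨n, hn⟩
    refine ⟨n, GmPts.gmFn_injective ?_⟩
    show Red.gmFn _ = Red.gmFn _
    rw [← hj', hn, GaPts.gaFn_ptOfFn]

/-- A morphism out of a faithfully flat quotient is a homomorphism if its composite with the projection is. -/
theorem isMonHom_desc {A B C : Over (Spec (CommRingCat.of k))} [GrpObj A] [GrpObj B] [GrpObj C] (q : A ⟶ B)
    [IsMonHom q] [Flat q.left] [Surjective q.left] (e : B ⟶ C) [IsMonHom (q ≫ e)] : IsMonHom e := by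
  haveI : Epi q := haveI : Epi q.left := Flat.epi_of_flat_of_surjective _; Over.epi_of_epi_left _
  have hmul : ∀ {T : Over (Spec (CommRingCat.of k))} (a b : T ⟶ B), (a * b) ≫ e = (a ≫ e) * (b ≫ e) := by
    intro T a b
    obtain ⟨U₁, c₁, a', hc₁, ha⟩ := exists_lift_of_flat q T a
    obtain ⟨U₂, c₂, b', hc₂, hb⟩ := exists_lift_of_flat q U₁ (c₁ ≫ b)
    have h2 : (c₂ ≫ a') ≫ q = c₂ ≫ c₁ ≫ a := by rw [Category.assoc, ha]
    rw [← cancel_epi c₁, ← cancel_epi c₂]
    calc c₂ ≫ c₁ ≫ (a * b) ≫ e = ((c₂ ≫ c₁ ≫ a) * (c₂ ≫ c₁ ≫ b)) ≫ e := by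
          simp only [MonObj.comp_mul, ← Category.assoc]
      _ = ((c₂ ≫ a') * b') ≫ (q ≫ e) := by rw [← hb, ← h2, ← MonObj.mul_comp, Category.assoc]
      _ = ((c₂ ≫ a') ≫ q ≫ e) * (b' ≫ q ≫ e) := MonObj.mul_comp _ _ _
      _ = (c₂ ≫ c₁ ≫ a ≫ e) * (c₂ ≫ c₁ ≫ b ≫ e) := by
          rw [← Category.assoc b', hb, ← Category.assoc (c₂ ≫ a'), h2]
          simp only [Category.assoc]
      _ = _ := by simp only [MonObj.comp_mul]
  refine ⟨?_, ?_⟩
  · rw [← (‹IsMonHom q›).one_hom, Category.assoc]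
    exact (‹IsMonHom (q ≫ e)›).one_hom
  · have := hmul (fst B B) (snd B B)
    rw [Hom.mul_def, lift_fst_snd, Category.id_comp] at this
    rw [this, Hom.mul_def]
    congr 1

theorem gmFn_pow {S : Scheme.{u}} {T : Over S} (x : T ⟶ Red.Gm S) (n : ℕ) :
    Red.gmFn (x ^ n) = Red.gmFn x ^ n :=
  by
  induction n with
  | zero =>
    have : x ^ (0 : ℕ) = 1 := pow_zero _
    rw [this, pow_zero (Red.gmFn x)]
    exact GmPts.gmFn_one
  | succ n ih =>
    have : x ^ (n + 1) = x ^ n * x := pow_succ _ _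
    rw [this, pow_succ (Red.gmFn x), GmPts.gmFn_mul, ih]

theorem range_pow_gm (n : ℕ) (hn : 0 < n) (z : (G₁).left) :
    z ∈ Set.range ((𝟙 G₁ : G₁ ⟶ G₁) ^ n).left := by
  let K := (G₁).left.residueField z
  let L := AlgebraicClosure K
  let zp : Spec (CommRingCat.of L) ⟶ (G₁).left :=
    Spec.map (CommRingCat.ofHom (algebraMap K L)) ≫ (G₁).left.fromSpecResidueField z
  let T : Over (Spec (CommRingCat.of k)) := Over.mk (zp ≫ (G₁).hom)
  let x : T ⟶ G₁ := Over.homMk zp rfl
  let eL : Γ(T.left, ⊤) ≃+* L := (Scheme.ΓSpecIso (CommRingCat.of L)).commRingCatIsoToRingEquiv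
  obtain ⟨c, hc⟩ := IsAlgClosed.exists_pow_nat_eq (eL (Red.gmFn x)) hn
  have hc0 : IsUnit c := (isUnit_pow_iff hn.ne').mp (hc ▸ (GmPts.isUnit_gmFn x).map eL)
  let y : T ⟶ G₁ := GmPts.ptOfUnit (hc0.map eL.symm).unit
  have hy : y ≫ ((𝟙 G₁ : G₁ ⟶ G₁) ^ n) = x := by
    refine GmPts.gmFn_injective ?_
    show Red.gmFn _ = Red.gmFn _
    rw [MonObj.comp_pow, Category.comp_id, gmFn_pow, GmPts.gmFn_ptOfUnit, IsUnit.unit_spec]
    apply eL.injective
    rw [map_pow, RingEquiv.apply_symm_apply, hc]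
  obtain ⟨p⟩ : Nonempty (Spec (CommRingCat.of L)) := inferInstance
  refine ⟨y.left p, ?_⟩
  rw [← Scheme.Hom.comp_apply, ← Over.comp_left, hy]
  show (Spec.map (CommRingCat.ofHom (algebraMap K L)) ≫ (G₁).left.fromSpecResidueField z) p = z
  rw [Scheme.Hom.comp_apply]
  exact Scheme.fromSpecResidueField_apply _ _

theorem eq_one_of_range {H P : Over (Spec (CommRingCat.of k))} [GrpObj H] [IsSeparated H.hom]
    [AlgebraicGeometry.IsReduced P.left] (x : P ⟶ H) (h : Set.range x.left ⊆ Set.range η[H].left) : x = 1 := by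
  haveI : IsClosedImmersion (η[H].left ≫ H.hom) := by
    rw [Over.w η[H]]; exact inferInstanceAs (IsClosedImmersion (𝟙 (Spec (CommRingCat.of k))))
  haveI : IsClosedImmersion η[H].left := IsClosedImmersion.of_comp η[H].left H.hom
  haveI : Surjective (pullback.fst x.left η[H].left) := by
    constructor
    intro z
    obtain ⟨w, hw⟩ := h ⟨z, rfl⟩
    obtain ⟨q, hq, -⟩ := Scheme.Pullback.exists_preimage_pullback (f := x.left) (g := η[H].left) z w hw.symm
    exact ⟨q, hq⟩
  haveI := isIso_of_isClosedImmersion_of_surjective (pullback.fst x.left η[H].left)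
  have e : x.left = (inv (pullback.fst x.left η[H].left) ≫ pullback.snd _ _) ≫ η[H].left := by
    rw [Category.assoc, ← pullback.condition, IsIso.inv_hom_id_assoc]
  have e2 : inv (pullback.fst x.left η[H].left) ≫ pullback.snd _ _ = P.hom := by
    have h := congrArg (· ≫ H.hom) e
    simp only [Category.assoc] at h
    rw [Over.w x, Over.w η[H]] at h
    exact ((congrArg (_ ≫ ·) (Category.comp_id _)).symm.trans h.symm)
  rw [e2] at e
  rw [Hom.one_def]
  exact Over.OverMorphism.ext e

theorem gm_kernel {H : Over (Spec (CommRingCat.of k))} [GrpObj H] [IsSeparated H.hom] (g : G₁ ⟶ H) [IsMonHom g]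
    (hmul : ∀ {T : Over (Spec (CommRingCat.of k))} (a b : T ⟶ G₁), (a * b) ≫ g = (a ≫ g) * (b ≫ g))
    (hone : ∀ {T : Over (Spec (CommRingCat.of k))}, (1 : T ⟶ G₁) ≫ g = 1) (n : ℕ) (hn : 0 < n)
    (hkill : ∀ {T : Over (Spec (CommRingCat.of k))} (x : T ⟶ G₁), x ≫ g = 1 → x ^ n = 1) :
    ∃ d : ℕ, 0 < d ∧ ∀ {T : Over (Spec (CommRingCat.of k))} (x : T ⟶ G₁), x ≫ g = 1 ↔ x ^ d = 1 := by
  haveI : IsAffine (G₁).left := by
    obtain ⟨e₁, -⟩ := nonempty_Gm_iso (k := k)
    haveI : IsIso e₁.hom.left := inferInstanceAs (IsIso ((Over.forget _).map e₁.hom))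
    haveI : IsAffine (GaExt.Ch (cR k) (LaurentPolynomial k)).left :=
      inferInstanceAs (IsAffine (Spec (CommRingCat.of (LaurentPolynomial k))))
    exact .of_isIso e₁.hom.left
  -- the kernel of `g`
  obtain ⟨N', _, j', hj', hjc', -, hker'⟩ := exists_kernel g
  haveI : IsFinite N'.hom := by
    let Q : Polynomial k := Polynomial.X ^ n - 1
    have hQ : Q.Monic := by simpa [Q] using Polynomial.monic_X_pow_sub_C (1 : k) hn.ne'
    have hd : ev Q N' (Red.gmFn j') = 0 := by
      have h2 := congrArg Red.gmFn (hkill j' (hker'.w.trans Hom.one_def.symm))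
      rw [gmFn_pow, GmPts.gmFn_one] at h2
      simp only [ev, Q, Polynomial.eval₂_sub, Polynomial.eval₂_X_pow, Polynomial.eval₂_one, h2, sub_self]
    obtain ⟨m, -, hm⟩ := exists_toCh (cR k) (AdjoinRoot Q) (Over.homMk N'.hom (Category.comp_id _) : N' ⟶ Over.mk (cR k))
      (AdjoinRoot.lift (stFn k N') (Red.gmFn j') hd) (RingHom.ext fun r => AdjoinRoot.lift_of hd)
    have hfinQ : IsFinite (GaExt.Ch (cR k) (AdjoinRoot Q)).hom := by
      show IsFinite (Spec.map (CommRingCat.ofHom (algebraMap k (AdjoinRoot Q))) ≫ 𝟙 _)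
      rw [Category.comp_id, IsFinite.SpecMap_iff]
      haveI := hQ.finite_adjoinRoot
      exact RingHom.finite_algebraMap.mpr inferInstance
    -- `N'` is closed in the scheme of roots
    haveI : Mono j' := (Over.forget _).mono_of_mono_map (inferInstanceAs (Mono j'.left))
    have hu : IsUnit (AdjoinRoot.root Q) := by
      have : (AdjoinRoot.root Q) ^ n = 1 := by
        have := AdjoinRoot.mk_self (f := Q)
        rwa [show Q = Polynomial.X ^ n - 1 from rfl, map_sub, map_pow, AdjoinRoot.mk_X, map_one, sub_eq_zero] at this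
      exact (isUnit_pow_iff hn.ne').mp (this ▸ isUnit_one)
    let ρ : GaExt.Ch (cR k) (AdjoinRoot Q) ⟶ G₁ := GmPts.ptOfUnit (hu.map (toFn k (AdjoinRoot Q))).unit
    have hmρ : m ≫ ρ = j' := by
      refine GmPts.gmFn_injective ?_
      show Red.gmFn _ = Red.gmFn _
      rw [GmPts.gmFn_comp, GmPts.gmFn_ptOfUnit, IsUnit.unit_spec]
      exact (RingHom.congr_fun hm (AdjoinRoot.root Q)).trans (AdjoinRoot.lift_root hd)
    haveI : IsSeparated (G₁).hom := inferInstance
    haveI : IsClosedImmersion (m.left ≫ ρ.left) := by rw [← Over.comp_left, hmρ]; infer_instance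
    haveI : IsSeparated ρ.left := by
      haveI : IsSeparated (ρ.left ≫ (G₁).hom) := by rw [Over.w ρ]; infer_instance
      exact IsSeparated.of_comp ρ.left (G₁).hom
    haveI : IsClosedImmersion m.left := IsClosedImmersion.of_comp m.left ρ.left
    rw [← Over.w m]
    infer_instance
  obtain ⟨P, hP, hPN, hPu⟩ := exists_poly_gm j'
  have hiff : ∀ {T : Over (Spec (CommRingCat.of k))} (x : T ⟶ G₁), x ≫ g = 1 ↔ ev P T (Red.gmFn x) = 0 := by
    intro T x
    rw [← hPN]
    exact ⟨fun hx => ⟨hker'.lift x (toUnit T) hx, hker'.lift_fst _ _ _⟩,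
      fun ⟨n', hn'⟩ => hn' ▸ GaSectLib.comp_eq_one hker' n'⟩
  have key : ∀ {A : Type u} [CommRing A] [Algebra k A] (c : A) (hc : IsUnit c),
      Polynomial.aeval c P = 0 ↔
        (GmPts.ptOfUnit (hc.map (toFn k A)).unit : GaExt.Ch (cR k) A ⟶ G₁) ≫ g = 1 := by
    intro A _ _ c hc
    rw [hiff, GmPts.gmFn_ptOfUnit, IsUnit.unit_spec, ev_toFn, map_eq_zero_iff _ (toFn_injective A)]
  have hP1 : Polynomial.aeval (1 : k) P = 0 := by
    rw [key 1 isUnit_one]
    have : (GmPts.ptOfUnit ((isUnit_one (M := k)).map (toFn k k)).unit : GaExt.Ch (cR k) k ⟶ G₁) = 1 :=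
      GmPts.gmFn_injective (by
        show Red.gmFn _ = Red.gmFn _
        rw [GmPts.gmFn_ptOfUnit, GmPts.gmFn_one, IsUnit.unit_spec, map_one])
    rw [this]
    exact hone
  have hd0 : 0 < P.natDegree := by
    rcases Nat.eq_zero_or_pos P.natDegree with hz | hz
    · rw [hP.natDegree_eq_zero] at hz
      rw [hz, map_one] at hP1
      exact absurd hP1 one_ne_zero
    · exact hz
  have hroot : IsUnit (AdjoinRoot.root P) := by
    have := hPu (GaExt.Ch (cR k) (AdjoinRoot P)) (toFn k _ (AdjoinRoot.root P))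
      (by rw [ev_toFn, AdjoinRoot.aeval_eq, AdjoinRoot.mk_self, map_zero])
    have h2 := this.map (Scheme.ΓSpecIso (CommRingCat.of (AdjoinRoot P))).hom.hom
    have e : (Scheme.ΓSpecIso (CommRingCat.of (AdjoinRoot P))).hom.hom (toFn k _ (AdjoinRoot.root P)) =
        AdjoinRoot.root P :=
      congrArg (fun φ => (ConcreteCategory.hom φ) (AdjoinRoot.root P))
        (Scheme.ΓSpecIso (CommRingCat.of (AdjoinRoot P))).inv_hom_id
    exact e ▸ h2
  have hXP := eq_X_pow_sub_one P hP hd0 hroot (fun A _ _ a b ha hb hPa hPb => by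
    rw [key a ha] at hPa
    rw [key b hb] at hPb
    rw [key (a * b) (ha.mul hb)]
    have e : (GmPts.ptOfUnit ((ha.mul hb).map (toFn k A)).unit : GaExt.Ch (cR k) A ⟶ G₁) =
        GmPts.ptOfUnit (ha.map (toFn k A)).unit * GmPts.ptOfUnit (hb.map (toFn k A)).unit :=
      GmPts.gmFn_injective (by
        show Red.gmFn _ = Red.gmFn _
        simp only [GmPts.gmFn_mul, GmPts.gmFn_ptOfUnit, IsUnit.unit_spec, map_mul])
    rw [e, hmul, hPa, hPb, _root_.one_mul])
  let d := P.natDegree
  have hiff' : ∀ {T : Over (Spec (CommRingCat.of k))} (x : T ⟶ G₁), x ≫ g = 1 ↔ x ^ d = 1 := by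
    intro T x
    rw [hiff, hXP, ev, Polynomial.eval₂_sub, Polynomial.eval₂_X_pow, Polynomial.eval₂_one, sub_eq_zero]
    refine ⟨fun h => GmPts.gmFn_injective ?_, fun h => ?_⟩
    · show Red.gmFn _ = Red.gmFn _
      rw [gmFn_pow, GmPts.gmFn_one, h]
    · rw [← gmFn_pow, h, GmPts.gmFn_one]
  exact ⟨d, hd0, fun x => hiff' x⟩

set_option backward.isDefEq.respectTransparency false in
/-- A smooth connected group with an isogeny onto a commutative group all whose isogenous images are itself. -/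
theorem main_core (G : Over (Spec (CommRingCat.of k))) [GrpObj G] [IsAffine G.left] [LocallyOfFiniteType G.hom]
    [AlgebraicGeometry.IsReduced G.left]
    (hGm : ∀ {T : Over (Spec (CommRingCat.of k))} (a b : T ⟶ G), a * b = b * a)
    (hsurj : ∀ n : ℕ, 0 < n → ∀ z : G.left, z ∈ Set.range ((𝟙 G : G ⟶ G) ^ n).left)
    (hsub : ∀ {H : Over (Spec (CommRingCat.of k))} [GrpObj H] [IsSeparated H.hom] (g : G ⟶ H) [IsMonHom g],
      (∀ {T : Over (Spec (CommRingCat.of k))} (a b : T ⟶ G), (a * b) ≫ g = (a ≫ g) * (b ≫ g)) →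
      (∀ {T : Over (Spec (CommRingCat.of k))}, (1 : T ⟶ G) ≫ g = 1) → ∀ n : ℕ, 0 < n →
      (∀ {T : Over (Spec (CommRingCat.of k))} (x : T ⟶ G), x ≫ g = 1 → x ^ n = 1) →
      ∃ d : ℕ, 0 < d ∧ ∀ {T : Over (Spec (CommRingCat.of k))} (x : T ⟶ G), x ≫ g = 1 ↔ x ^ d = 1)
    (H : Over (Spec (CommRingCat.of k))) [GrpObj H] [Smooth H.hom] [ConnectedSpace H.left]
    (f : H ⟶ G) [IsMonHom f] [IsFinite f.left] [Surjective f.left] :
    Nonempty (Grp.mk H ≅ Grp.mk G) := by
  haveI : IsAffine H.left := isAffine_of_isAffineHom f.left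
  haveI : IsSeparated H.hom := inferInstance
  haveI : QuasiCompact H.hom := inferInstance
  haveI := isReduced_of_smooth_field H.hom
  haveI : Flat f.left := flat_of_surjective_hom f
  haveI : GeometricallyIrreducible H.hom := GrpSchLib.Adjoint.geometricallyIrreducible (G := H)
  haveI : IrreducibleSpace H.left := GeometricallyIrreducible.irreducibleSpace_of_subsingleton H.hom
  -- the kernel
  obtain ⟨N, _, j, hj, hjc, -, hker⟩ := exists_kernel f
  haveI : IsFinite N.hom := MorphismProperty.of_isPullback (P := @IsFinite) (hker.map (Over.forget _))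
    (inferInstanceAs (IsFinite f.left))
  haveI : Mono j := (Over.forget _).mono_of_mono_map (inferInstanceAs (Mono j.left))
  have hkill : ∀ {T : Over (Spec (CommRingCat.of k))} (n : T ⟶ N), (n ≫ j) ≫ f = 1 := fun n =>
    GaSectLib.comp_eq_one hker n
  haveI : IsLocallyArtinian N.left := IsLocallyArtinian.of_locallyQuasiFinite N.hom
  haveI : CompactSpace N.left := QuasiCompact.compactSpace_of_compactSpace N.hom
  haveI : IsArtinianScheme N.left := {}
  haveI : DiscreteTopology N.left := (IsArtinianScheme.iff_isNoetherian_and_discreteTopology.1 inferInstance).2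
  -- commutativity
  have hcomm : ∀ {T : Over (Spec (CommRingCat.of k))} (a b : T ⟶ H), a * b = b * a := by
    let c : H ⊗ H ⟶ H := fst H H * snd H H * (fst H H)⁻¹ * (snd H H)⁻¹
    have hc : c ≫ f = 1 := by
      simp only [c, MonObj.mul_comp, GrpObj.inv_comp]
      rw [hGm (fst H H ≫ f) (snd H H ≫ f), mul_inv_cancel_right, mul_inv_cancel]
    let c' : H ⊗ H ⟶ N := hker.lift c (toUnit _) (hc.trans Hom.one_def)
    haveI : AlgebraicGeometry.IsReduced (H ⊗ H).left := by
      haveI : Smooth (H ⊗ H).hom := inferInstanceAs (Smooth (pullback.fst H.hom H.hom ≫ H.hom))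
      exact isReduced_of_smooth_field (H ⊗ H).hom
    haveI : IrreducibleSpace (H ⊗ H).left := inferInstanceAs (IrreducibleSpace ↥(pullback H.hom H.hom))
    have hc1 : c' = 1 := by
      refine eq_one_of_range c' ?_
      rintro _ ⟨w, rfl⟩
      let pt : ↥(𝟙_ (Over (Spec (CommRingCat.of k)))).left := IsLocalRing.closedPoint k
      refine ⟨pt, ?_⟩
      have he : (lift η[H] η[H] : _ ⟶ H ⊗ H) ≫ c' = η[N] := by
        rw [← cancel_mono j, Category.assoc, hker.lift_fst]
        simp only [c, MonObj.comp_mul, GrpObj.comp_inv, lift_fst, lift_snd, IsMonHom.one_hom]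
        rw [MonObj.one_eq_one]
        simp
      have h2 := (isPreconnected_range c'.left.continuous).subsingleton ⟨w, rfl⟩
        ⟨(lift η[H] η[H] : _ ⟶ H ⊗ H).left pt, rfl⟩
      rw [h2, ← Scheme.Hom.comp_apply, ← Over.comp_left, he]
    intro T a b
    have h1 := congrArg (fun r => lift a b ≫ r ≫ j) hc1
    simp only [c', hker.lift_fst, c, MonObj.comp_mul, GrpObj.comp_inv, lift_fst, lift_snd, MonObj.one_comp,
      MonObj.comp_one] at h1
    exact mul_inv_eq_iff_eq_mul.mp (mul_inv_eq_one.mp h1)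
  haveI : IsCommMonObj N := ⟨by
    rw [← cancel_mono j, Category.assoc, IsMonHom.mul_hom]
    have := hcomm (snd N N ≫ j) (fst N N ≫ j)
    rw [Hom.mul_def, Hom.mul_def] at this
    convert this using 1
    all_goals first
      | (try simp only [← Category.assoc]); congr 1; apply CartesianMonoidalCategory.hom_ext <;> simp
      | simp [← Category.assoc]⟩
  haveI : LocallyOfFinitePresentation N.hom := inferInstance
  let pt : ↥(Spec (CommRingCat.of k)) := IsLocalRing.closedPoint k
  let n : ℕ := Scheme.Hom.finrank N.hom pt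
  have hn : 0 < n := by
    have h := Scheme.Hom.one_le_finrank_map N.hom (η[N].left pt)
    rwa [show N.hom (η[N].left pt) = pt from @Subsingleton.elim ↥(Spec (CommRingCat.of k)) inferInstance _ _] at h
  have hpow : ∀ {T : Over (Spec (CommRingCat.of k))} (t : T ⟶ N), t ^ n = 1 := fun {T} t =>
    S7782.result N n (fun s => by rw [@Subsingleton.elim ↥(Spec (CommRingCat.of k)) inferInstance s pt]) T t
  have hpowH : ∀ {T : Over (Spec (CommRingCat.of k))} (x : T ⟶ H), x ≫ (𝟙 H : H ⟶ H) ^ n = x ^ n := fun x => by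
    rw [MonObj.comp_pow, Category.comp_id]
  haveI : QuasiCompact f.left := inferInstance
  obtain ⟨g, hg⟩ := GrpFieldLib.QuotTower.exists_desc f ((𝟙 H : H ⟶ H) ^ n) (fun {T} x y h => by
    have h1 : (x⁻¹ * y) ≫ f = 1 := by rw [MonObj.mul_comp, GrpObj.inv_comp, h, inv_mul_cancel]
    let t : T ⟶ N := hker.lift (x⁻¹ * y) (toUnit T) h1
    have ht : (x⁻¹ * y) ^ n = 1 := by
      rw [← hker.lift_fst (x⁻¹ * y) (toUnit T) h1, ← MonObj.pow_comp, hpow, MonObj.one_comp]
    letI : CommGroup (T ⟶ H) := { (inferInstance : Group (T ⟶ H)) with mul_comm := fun p q => hcomm p q }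
    rw [hpowH, hpowH]
    rw [mul_pow, inv_pow, inv_mul_eq_one] at ht
    exact ht)
  haveI : Epi f := haveI : Epi f.left := Flat.epi_of_flat_of_surjective _; Over.epi_of_epi_left _
  haveI : IsMonHom (f ≫ g) := by
    rw [hg]
    refine ⟨by rw [MonObj.comp_pow, Category.comp_id, MonObj.one_eq_one, one_pow], ?_⟩
    letI : CommGroup (H ⊗ H ⟶ H) := { (inferInstance : Group (H ⊗ H ⟶ H)) with mul_comm := fun p q => hcomm p q }
    have e : μ[H] = fst H H * snd H H := by rw [Hom.mul_def, lift_fst_snd, Category.id_comp]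
    rw [hpowH, e, mul_pow, ← hpowH (fst H H), ← hpowH (snd H H), Hom.mul_def]
    congr 1
  haveI : IsMonHom g := isMonHom_desc f g
  have hgf : g ≫ f = (𝟙 G : G ⟶ G) ^ n := by
    rw [← cancel_epi f, reassoc_of% hg, MonObj.pow_comp, Category.id_comp, MonObj.comp_pow, Category.comp_id]
  -- `g` is surjective
  haveI : QuasiCompact g.left := inferInstance
  haveI : Surjective g.left := by
    have hcl := HomClosedRange.isClosed_range g
    obtain ⟨ξ, hξ⟩ : ∃ ξ : H.left, IsGenericPoint ξ Set.univ := ⟨genericPoint H.left, genericPoint_spec H.left⟩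
    obtain ⟨w, hw⟩ := hsurj n hn (f.left ξ)
    have hw' : f.left (g.left w) = f.left ξ := by
      rw [← Scheme.Hom.comp_apply, ← Over.comp_left, hgf, hw]
    have hzξ : g.left w = ξ := by
      have hs : ξ ⤳ g.left w := hξ.specializes (by trivial)
      haveI : DiscreteTopology (f.left ⁻¹' {f.left ξ} : Set H.left) :=
        (f.left.isDiscrete_preimage_singleton (f.left ξ)).to_subtype
      have := (specializes_iff_eq (x := (⟨ξ, rfl⟩ : (f.left ⁻¹' {f.left ξ} : Set H.left)))
        (y := ⟨g.left w, hw'⟩)).mp (Topology.IsInducing.subtypeVal.specializes_iff.mp hs)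
      exact (congrArg Subtype.val this).symm
    constructor
    intro z
    have hz : z ∈ Set.range g.left := by
      have : closure {ξ} ⊆ Set.range g.left := hcl.closure_subset_iff.mpr
        (Set.singleton_subset_iff.mpr ⟨w, hzξ⟩)
      exact this (by rw [hξ.def]; trivial)
    exact hz
  haveI : Flat g.left := flat_of_surjective_hom g
  obtain ⟨d, hd0, hiff'⟩ := hsub g (fun a b => MonObj.mul_comp a b g) (MonObj.one_comp g) n hn (fun {T} x hx => by
    have h1 : (x ≫ g) ≫ f = 1 := by rw [hx, MonObj.one_comp]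
    rwa [Category.assoc, hgf, MonObj.comp_pow, Category.comp_id] at h1)
  let ψ : G ⟶ G := (𝟙 G : G ⟶ G) ^ d
  have hψ : ∀ {T : Over (Spec (CommRingCat.of k))} (x : T ⟶ G), x ≫ ψ = x ^ d := fun x => by
    rw [MonObj.comp_pow, Category.comp_id]
  haveI : Surjective ψ.left := ⟨fun z => hsurj d hd0 z⟩
  haveI : IsMonHom ψ := by
    refine ⟨by rw [MonObj.comp_pow, Category.comp_id, MonObj.one_eq_one, one_pow], ?_⟩
    letI : CommGroup (G ⊗ G ⟶ G) := { (inferInstance : Group (G ⊗ G ⟶ G)) with mul_comm := fun p q => hGm p q }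
    have e : μ[G] = fst G G * snd G G := by rw [Hom.mul_def, lift_fst_snd, Category.id_comp]
    rw [hψ, e, mul_pow, ← hψ (fst G G), ← hψ (snd G G), Hom.mul_def]
    congr 1
  haveI : Flat ψ.left := flat_of_surjective_hom ψ
  obtain ⟨e, he⟩ := GrpFieldLib.QuotTower.exists_iso g ψ (fun {T} x y => by
    letI : CommGroup (T ⟶ G) := { (inferInstance : Group (T ⟶ G)) with mul_comm := fun p q => hGm p q }
    have h1 : x ≫ g = y ≫ g ↔ (x⁻¹ * y) ≫ g = 1 := by
      rw [MonObj.mul_comp, GrpObj.inv_comp, inv_mul_eq_one]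
    rw [h1, hiff', hψ, hψ, mul_pow, inv_pow, inv_mul_eq_one])
  haveI : IsMonHom (g ≫ e.hom) := by rw [he]; infer_instance
  haveI : IsMonHom e.hom := isMonHom_desc g e.hom
  exact ⟨Grp.mkIso' e⟩


theorem main_gm (H : Over (Spec (CommRingCat.of k))) [GrpObj H] [Smooth H.hom] [ConnectedSpace H.left]
    (f : H ⟶ G₁) [IsMonHom f] [IsFinite f.left] [Surjective f.left] :
    Nonempty (Grp.mk H ≅ Grp.mk (Red.Gm (Spec (CommRingCat.of k)))) := by
  classical
  obtain ⟨e₁, -⟩ := nonempty_Gm_iso (k := k)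
  haveI : IsIso e₁.hom.left := inferInstanceAs (IsIso ((Over.forget _).map e₁.hom))
  haveI : IsAffine (GaExt.Ch (cR k) (LaurentPolynomial k)).left :=
    inferInstanceAs (IsAffine (Spec (CommRingCat.of (LaurentPolynomial k))))
  haveI : IsAffine (G₁).left := .of_isIso e₁.hom.left
  haveI : LocallyOfFiniteType (G₁).hom := by
    rw [← Over.w e₁.hom]
    haveI : LocallyOfFiniteType (GaExt.Ch (cR k) (LaurentPolynomial k)).hom := by
      show LocallyOfFiniteType (Spec.map (CommRingCat.ofHom (algebraMap k (LaurentPolynomial k))) ≫ 𝟙 _)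
      rw [Category.comp_id, HasRingHomProperty.Spec_iff (P := @LocallyOfFiniteType)]
      exact RingHom.finiteType_algebraMap.mpr inferInstance
    infer_instance
  haveI : AlgebraicGeometry.IsReduced (G₁).left := by
    haveI : IsDomain (LaurentPolynomial k) := NoZeroDivisors.to_isDomain _
    haveI : AlgebraicGeometry.IsReduced (GaExt.Ch (cR k) (LaurentPolynomial k)).left :=
      inferInstanceAs (AlgebraicGeometry.IsReduced (Spec (CommRingCat.of (LaurentPolynomial k))))
    exact isReduced_of_isOpenImmersion e₁.hom.left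
  exact main_core (Red.Gm (Spec (CommRingCat.of k)))
    (fun a b => GmPts.gmFn_injective (by
      show Red.gmFn _ = Red.gmFn _
      rw [GmPts.gmFn_mul, GmPts.gmFn_mul, mul_comm]))
    range_pow_gm (fun g => gm_kernel g) H f

end Groth.Agent.GaQuot
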