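import Groth.Agent.GaQuot.Poly
import Groth.Agent.GaExt.FieldPic
import Groth.Agent.GaSectLib.Section
import Groth.Agent.GrpFieldLib.QuotTower
import Groth.Agent.GrpSchLib.KernelGrp
import Groth.Agent.GrpSchLib.HomFlat
import Groth.Agent.GrpSchLib.SmoothReduced
import Mathlib.FieldTheory.IsAlgClosed.AlgebraicClosure
import Mathlib.Algebra.Polynomial.FieldDivision

/-! A smooth connected affine group isogenous to `𝔾ₐ` from above is `𝔾ₐ`. -/

set_option autoImplicit false
set_option backward.isDefEq.respectTransparency false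
set_option linter.style.haveILetI false

universe u

open CategoryTheory Limits AlgebraicGeometry MonoidalCategory CartesianMonoidalCategory
open scoped MonObj

namespace Groth.Agent.GaQuot

open GaExt GrpSchLib

variable {k : Type u} [Field k]

local notation "G₀" => Red.Ga (Spec (CommRingCat.of k))

/-- The value of a polynomial at a function. -/
noncomputable def ev (P : Polynomial k) (T : Over (Spec (CommRingCat.of k))) (v : Γ(T.left, ⊤)) : Γ(T.left, ⊤) :=
  P.eval₂ (stFn k T) v

theorem ev_res (P : Polynomial k) {T T' : Over (Spec (CommRingCat.of k))} (g : T' ⟶ T) (v : Γ(T.left, ⊤)) :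
    g.left.appTop (ev P T v) = ev P T' (g.left.appTop v) := by
  show g.left.appTop.hom (P.eval₂ (stFn k T) v) = _
  rw [Polynomial.hom_eval₂]
  exact congrArg (fun φ => P.eval₂ φ (g.left.appTop.hom v)) (RingHom.ext fun r => stFn_res g r)

theorem ev_toFn (P : Polynomial k) {B : Type u} [CommRing B] [Algebra k B] (q : B) :
    ev P (GaExt.Ch (cR k) B) (toFn k B q) = toFn k B (Polynomial.aeval q P) := by
  rw [Polynomial.aeval_def, Polynomial.hom_eval₂]
  exact congrArg (fun φ => P.eval₂ φ (toFn k B q)) (RingHom.ext fun r => stFn_ch B r)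

theorem toFn_injective (B : Type u) [CommRing B] [Algebra k B] : Function.Injective (toFn k B) :=
  (Scheme.ΓSpecIso (CommRingCat.of B)).commRingCatIsoToRingEquiv.symm.injective

/-- A finite subscheme of `𝔾ₐ` is cut out by a monic polynomial. -/
theorem exists_poly {N : Over (Spec (CommRingCat.of k))} (jN : N ⟶ G₀) [IsClosedImmersion jN.left] [IsFinite N.hom] :
    ∃ P : Polynomial k, P.Monic ∧ ∀ (T : Over (Spec (CommRingCat.of k))) (x : T ⟶ G₀),
      (∃ n : T ⟶ N, n ≫ jN = x) ↔ ev P T (Red.gaFn x) = 0 := by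
  obtain ⟨m, hm, -⟩ := exists_line (R := k)
  have hm' : chPt Polynomial.X ≫ m = 𝟙 _ := by
    obtain ⟨m', hm1, hm2⟩ := exists_line (R := k)
    have : chPt Polynomial.X ≫ m' = 𝟙 _ := by
      rw [hm2, Polynomial.aeval_X_left]
      exact Over.OverMorphism.ext (Spec.map_id _)
    have e : m = m' := by
      rw [← Category.comp_id m, ← this, ← Category.assoc, hm, Category.id_comp]
    rw [e]; exact this
  haveI : IsIso m := ⟨⟨chPt Polynomial.X, hm, hm'⟩⟩
  haveI : IsIso m.left := inferInstanceAs (IsIso ((Over.forget _).map m))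
  let f : N.left ⟶ Spec (CommRingCat.of (Polynomial k)) := jN.left ≫ m.left
  haveI : IsClosedImmersion f := inferInstanceAs (IsClosedImmersion (jN.left ≫ m.left))
  obtain ⟨I, e, he⟩ := IsClosedImmersion.Spec_iff.mp (show IsClosedImmersion f from inferInstance)
  have hIne : I ≠ ⊥ := by
    intro hI
    have hN : N.hom = e.hom ≫ Spec.map (CommRingCat.ofHom ((Ideal.Quotient.mk I).comp Polynomial.C)) := by
      rw [CommRingCat.ofHom_comp, Spec.map_comp, ← Category.assoc, ← he]
      show N.hom = (jN.left ≫ m.left) ≫ _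
      rw [← Over.w jN, Category.assoc]
      congr 1
      have := Over.w m
      rw [← this]
      congr 1
    have h1 : IsFinite (Spec.map (CommRingCat.ofHom ((Ideal.Quotient.mk I).comp Polynomial.C))) := by
      rw [← MorphismProperty.cancel_left_of_respectsIso (P := @IsFinite) e.hom, ← hN]
      infer_instance
    rw [IsFinite.SpecMap_iff] at h1
    have h2 : RingHom.Finite (Polynomial.C : k →+* Polynomial k) := by
      have h3 : Function.Bijective (Ideal.Quotient.mk I) :=
        ⟨(injective_iff_map_eq_zero _).mpr fun x hx => by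
          rw [Ideal.Quotient.eq_zero_iff_mem, hI] at hx; exact hx, Ideal.Quotient.mk_surjective⟩
      have h4 := (RingHom.Finite.of_surjective (RingEquiv.ofBijective _ h3).symm.toRingHom
        (RingEquiv.ofBijective _ h3).symm.surjective).comp h1
      refine (congrArg RingHom.Finite (RingHom.ext fun c => ?_)).mp h4
      exact (RingEquiv.ofBijective _ h3).symm_apply_apply _
    have h5 : Module.Finite k (Polynomial k) := by
      have := RingHom.finite_algebraMap.mp (show (algebraMap k (Polynomial k)).Finite from h2)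
      exact this
    exact Polynomial.not_finite h5
  obtain ⟨g, hg⟩ := (IsPrincipalIdealRing.principal I).principal
  have hg0 : g ≠ 0 := by
    rintro rfl
    exact hIne (by simpa using hg)
  let P : Polynomial k := g * Polynomial.C g.leadingCoeff⁻¹
  have hP : P.Monic := Polynomial.monic_mul_leadingCoeff_inv hg0
  have hIP : I = Ideal.span {P} := by
    rw [hg]
    show Ideal.span {g} = _
    rw [Ideal.span_singleton_eq_span_singleton.mpr (associated_mul_unit_right g _
      (Polynomial.isUnit_C.mpr (isUnit_iff_ne_zero.mpr (inv_ne_zero (Polynomial.leadingCoeff_ne_zero.mpr hg0)))))]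
  clear_value P
  subst hIP
  let B := AdjoinRoot P
  let eN : N ⟶ GaExt.Ch (cR k) B := Over.homMk e.hom (by
    show e.hom ≫ Spec.map (CommRingCat.ofHom (algebraMap k B)) ≫ 𝟙 _ = N.hom
    rw [Category.comp_id, ← Over.w jN,
      show algebraMap k B = (AdjoinRoot.mk P).comp (algebraMap k (Polynomial k)) from
        (AdjoinRoot.mkₐ P).comp_algebraMap.symm, CommRingCat.ofHom_comp, Spec.map_comp, ← Category.assoc]
    show (e.hom ≫ Spec.map (CommRingCat.ofHom (Ideal.Quotient.mk (Ideal.span {P})))) ≫ _ = _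
    rw [← he]
    show (jN.left ≫ m.left) ≫ _ = _
    rw [Category.assoc]
    congr 1
    rw [← Over.w m]
    congr 1)
  haveI : IsIso eN.left := inferInstanceAs (IsIso e.hom)
  haveI : IsIso ((Over.forget (Spec (CommRingCat.of k))).map eN) := inferInstanceAs (IsIso eN.left)
  haveI : IsIso eN := isIso_of_reflects_iso eN (Over.forget _)
  have hζ : eN ≫ chPt (AdjoinRoot.root P) = jN := by
    rw [show AdjoinRoot.root P = AdjoinRoot.mkₐ P Polynomial.X from rfl, ← chMap_chPt, ← Category.assoc]
    have : eN ≫ chMap (cR k) (AdjoinRoot.mkₐ P) = jN ≫ m := Over.OverMorphism.ext he.symm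
    rw [this, Category.assoc, hm, Category.comp_id]
  refine ⟨P, hP, fun T x => ⟨?_, fun hx => ?_⟩⟩
  · rintro ⟨n, rfl⟩
    rw [← hζ, ← Category.assoc, GaPts.gaFn_comp, gaFn_chPt, ← ev_res, ev_toFn, AdjoinRoot.aeval_eq,
      AdjoinRoot.mk_self, map_zero, map_zero]
  · obtain ⟨n, -, hn⟩ := exists_toCh (cR k) B (Over.homMk T.hom (Category.comp_id _) : T ⟶ Over.mk (cR k))
      (AdjoinRoot.lift (stFn k T) (Red.gaFn x) hx) (RingHom.ext fun r => AdjoinRoot.lift_of hx)
    refine ⟨n ≫ inv eN, ?_⟩
    rw [← hζ, Category.assoc, IsIso.inv_hom_id_assoc]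
    apply GaPts.gaFn_injective
    show Red.gaFn _ = Red.gaFn _
    rw [GaPts.gaFn_comp, gaFn_chPt]
    exact (RingHom.congr_fun hn (AdjoinRoot.root P)).trans (AdjoinRoot.lift_root hx)

theorem main (H : Over (Spec (CommRingCat.of k))) [GrpObj H] [IsAffine H.left] [Smooth H.hom]
    (f : G₀ ⟶ H) [IsMonHom f] [IsFinite f.left] [Surjective f.left] :
    Nonempty (Grp.mk H ≅ Grp.mk (Red.Ga (Spec (CommRingCat.of k)))) := by
  haveI : IsAffineHom H.hom := inferInstance
  obtain ⟨e₀⟩ := nonempty_Ga_iso k
  haveI : LocallyOfFiniteType (G₀).hom := by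
    rw [← Over.w e₀.hom]
    haveI : LocallyOfFiniteType (GaExt.Ch (cR k) (Polynomial k)).hom := by
      show LocallyOfFiniteType (Spec.map (CommRingCat.ofHom (algebraMap k (Polynomial k))) ≫ 𝟙 _)
      rw [Category.comp_id, HasRingHomProperty.Spec_iff (P := @LocallyOfFiniteType)]
      exact RingHom.finiteType_algebraMap.mpr inferInstance
    infer_instance
  haveI := isReduced_of_smooth_field H.hom
  haveI : Flat f.left := flat_of_surjective_hom f
  obtain ⟨N, _, jN, _, _, -, hker⟩ := exists_kernel f
  haveI : IsFinite N.hom := by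
    have h := MorphismProperty.of_isPullback (P := @IsFinite) (hker.map (Over.forget _)) (inferInstanceAs (IsFinite f.left))
    exact h
  obtain ⟨P, hP, hPN⟩ := exists_poly jN
  have hiff : ∀ {T : Over (Spec (CommRingCat.of k))} (x : T ⟶ G₀), x ≫ f = 1 ↔ ev P T (Red.gaFn x) = 0 := by
    intro T x
    rw [← hPN]
    exact ⟨fun hx => ⟨hker.lift x (toUnit T) hx, hker.lift_fst _ _ _⟩,
      fun ⟨n, hn⟩ => hn ▸ GaSectLib.comp_eq_one hker n⟩
  have h0 : P.coeff 0 = 0 := by
    have := (hiff (T := GaExt.Ch (cR k) k) 1).mp (by simp)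
    rw [GaPts.gaFn_one, ← map_zero (toFn k k), ev_toFn] at this
    have h := toFn_injective k this
    rwa [Polynomial.aeval_def, Polynomial.eval₂_at_zero, Algebra.algebraMap_self, RingHom.id_apply] at h
  have hclosed : ∀ (A : Type u) [CommRing A] [Algebra k A] (a b : A), Polynomial.aeval a P = 0 →
      Polynomial.aeval b P = 0 → Polynomial.aeval (a + b) P = 0 := by
    intro A _ _ a b ha hb
    have key : ∀ c : A, Polynomial.aeval c P = 0 ↔ chPt (R := k) c ≫ f = 1 := fun c => by
      rw [hiff, gaFn_chPt, ev_toFn, map_eq_zero_iff _ (toFn_injective A)]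
    rw [key] at ha hb ⊢
    rw [chPt_add, MonObj.mul_comp, ha, hb, _root_.one_mul]
  have hadd : ∀ {T : Over (Spec (CommRingCat.of k))} (v w : Γ(T.left, ⊤)), ev P T (v + w) = ev P T v + ev P T w :=
    fun {T} v w => additive P hP h0 hclosed (stFn k T) v w
  obtain ⟨ψ, hψ⟩ : ∃ ψ : G₀ ⟶ G₀, ∀ {T : Over (Spec (CommRingCat.of k))} (x : T ⟶ G₀),
      Red.gaFn (x ≫ ψ) = ev P T (Red.gaFn x) := by
    refine ⟨GaPts.ptOfFn (ev P G₀ (Red.gaFn (𝟙 G₀))), fun x => ?_⟩
    rw [GaPts.gaFn_comp, GaPts.gaFn_ptOfFn, ev_res, ← GaPts.gaFn_comp, Category.comp_id]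
  have hmul : ∀ {T : Over (Spec (CommRingCat.of k))} (x y : T ⟶ G₀), (x * y) ≫ ψ = (x ≫ ψ) * (y ≫ ψ) := by
    intro T x y
    apply GaPts.gaFn_injective
    show Red.gaFn _ = Red.gaFn _
    rw [hψ, GaPts.gaFn_mul, GaPts.gaFn_mul, hψ, hψ, hadd]
  have hrel : ∀ {T : Over (Spec (CommRingCat.of k))} (x y : T ⟶ G₀), x ≫ f = y ≫ f ↔ x ≫ ψ = y ≫ ψ := by
    intro T x y
    have h1 : x ≫ f = y ≫ f ↔ (x⁻¹ * y) ≫ f = 1 := by
      rw [MonObj.mul_comp, GrpObj.inv_comp, inv_mul_eq_one]
    rw [h1, hiff, GaPts.gaFn_mul, GaSectLib.gaFn_inv]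
    constructor
    · intro e
      apply GaPts.gaFn_injective
      show Red.gaFn _ = Red.gaFn _
      have := hadd (Red.gaFn x) (-Red.gaFn x + Red.gaFn y)
      rw [add_neg_cancel_left, e, add_zero] at this
      rw [hψ, hψ, this]
    · intro e
      have e' : ev P T (Red.gaFn y) = ev P T (Red.gaFn x) := by rw [← hψ, ← hψ, e]
      have := hadd (Red.gaFn x) (-Red.gaFn x + Red.gaFn y)
      rw [add_neg_cancel_left, e'] at this
      exact left_eq_add.mp this
  haveI : Surjective ψ.left := by
    constructor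
    intro z
    let K := (Red.Ga (Spec (CommRingCat.of k))).left.residueField z
    let L := AlgebraicClosure K
    let zp : Spec (CommRingCat.of L) ⟶ (G₀).left :=
      Spec.map (CommRingCat.ofHom (algebraMap K L)) ≫ (G₀).left.fromSpecResidueField z
    let T : Over (Spec (CommRingCat.of k)) := Over.mk (zp ≫ (G₀).hom)
    let x : T ⟶ G₀ := Over.homMk zp rfl
    let eL : Γ(T.left, ⊤) ≃+* L := (Scheme.ΓSpecIso (CommRingCat.of L)).commRingCatIsoToRingEquiv
    let Q : Polynomial L := P.map (eL.toRingHom.comp (stFn k T)) - Polynomial.C (eL (Red.gaFn x))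
    have hdeg : P.natDegree ≠ 0 := fun hd => by
      rw [hP.natDegree_eq_zero] at hd
      rw [hd] at h0
      simp at h0
    have hQ : Q.degree ≠ 0 := by
      intro hd
      have h1 : Q.natDegree = 0 := Polynomial.natDegree_eq_zero_iff_degree_le_zero.mpr hd.le
      rw [Polynomial.natDegree_sub_C, hP.natDegree_map] at h1
      exact hdeg h1
    obtain ⟨c, hc⟩ := IsAlgClosed.exists_root Q hQ
    let y : T ⟶ G₀ := GaPts.ptOfFn (eL.symm c)
    have hy : y ≫ ψ = x := by
      apply GaPts.gaFn_injective
      show Red.gaFn _ = Red.gaFn _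
      rw [hψ, GaPts.gaFn_ptOfFn]
      apply eL.injective
      rw [Polynomial.IsRoot, Polynomial.eval_sub, Polynomial.eval_C, sub_eq_zero, Polynomial.eval_map] at hc
      rw [← hc]
      show eL.toRingHom (P.eval₂ (stFn k T) (eL.symm c)) = _
      rw [Polynomial.hom_eval₂]
      congr 1
      exact eL.apply_symm_apply c
    obtain ⟨p⟩ : Nonempty (Spec (CommRingCat.of L)) := inferInstance
    refine ⟨y.left p, ?_⟩
    rw [← Scheme.Hom.comp_apply, ← Over.comp_left, hy]
    show (Spec.map (CommRingCat.ofHom (algebraMap K L)) ≫ (G₀).left.fromSpecResidueField z) p = z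
    rw [Scheme.Hom.comp_apply]
    exact Scheme.fromSpecResidueField_apply _ _
  haveI hψm : IsMonHom ψ := by
    refine ⟨?_, ?_⟩
    · have h1 : ((1 : 𝟙_ (Over (Spec (CommRingCat.of k))) ⟶ G₀)) ≫ ψ = 1 := by
        apply GaPts.gaFn_injective
        show Red.gaFn _ = Red.gaFn _
        rw [hψ, GaPts.gaFn_one, ev, Polynomial.eval₂_at_zero, h0, map_zero]
      rwa [Hom.one_def, show toUnit (𝟙_ (Over (Spec (CommRingCat.of k)))) = 𝟙 _ from toUnit_unique _ _,
        Category.id_comp] at h1
    · have := hmul (fst G₀ G₀) (snd G₀ G₀)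
      rw [Hom.mul_def, lift_fst_snd, Category.id_comp] at this
      rw [this, Hom.mul_def]
      congr 1
  haveI : IsAffine (G₀).left := by
    haveI : IsAffine (GaExt.Ch (cR k) (Polynomial k)).left := inferInstanceAs (IsAffine (Spec (CommRingCat.of (Polynomial k))))
    haveI : IsIso e₀.hom.left := inferInstanceAs (IsIso ((Over.forget _).map e₀.hom))
    exact .of_isIso e₀.hom.left
  haveI : AlgebraicGeometry.IsReduced (G₀).left := by
    haveI : IsIso e₀.hom.left := inferInstanceAs (IsIso ((Over.forget _).map e₀.hom))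
    haveI : AlgebraicGeometry.IsReduced (GaExt.Ch (cR k) (Polynomial k)).left :=
      inferInstanceAs (AlgebraicGeometry.IsReduced (Spec (CommRingCat.of (Polynomial k))))
    exact isReduced_of_isOpenImmersion e₀.hom.left
  haveI : Flat ψ.left := flat_of_surjective_hom ψ
  obtain ⟨e, he⟩ := GrpFieldLib.QuotTower.exists_iso f ψ hrel
  haveI : Epi f := haveI : Epi f.left := Flat.epi_of_flat_of_surjective _; Over.epi_of_epi_left _
  haveI : IsMonHom e.hom := by
    refine ⟨?_, ?_⟩
    · rw [← (‹IsMonHom f›).one_hom, Category.assoc, he]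
      exact hψm.one_hom
    · have hp : Epi (f ⊗ₘ f) := by
        rw [MonoidalCategory.tensorHom_def]
        have h1 := GrpSchLib.isPullback_whiskerLeft (W := H) f
        have h2 : IsPullback (f ▷ G₀).left (fst G₀ G₀).left (fst H G₀).left f.left :=
          (IsPullback.of_bot (h₁₁ := (fst G₀ G₀).left) (v₁₁ := (f ▷ G₀).left) (v₁₂ := f.left)
            (by
              have e1 : (f ▷ G₀).left ≫ pullback.snd H.hom (G₀).hom = pullback.snd (G₀).hom (G₀).hom :=
                congrArg CommaMorphism.left (whiskerRight_snd f G₀)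
              rw [e1, Over.w f]
              exact IsPullback.of_hasPullback _ _)
            (congrArg CommaMorphism.left (whiskerRight_fst f G₀)).symm
            (IsPullback.of_hasPullback H.hom (G₀).hom)).flip
        haveI : Flat (H ◁ f).left := MorphismProperty.of_isPullback (P := @Flat) h1.flip inferInstance
        haveI : Surjective (H ◁ f).left := MorphismProperty.of_isPullback (P := @Surjective) h1.flip inferInstance
        haveI : Flat (f ▷ G₀).left := MorphismProperty.of_isPullback (P := @Flat) h2.flip inferInstance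
        haveI : Surjective (f ▷ G₀).left := MorphismProperty.of_isPullback (P := @Surjective) h2.flip inferInstance
        haveI : Epi (f ▷ G₀).left := Flat.epi_of_flat_of_surjective _
        haveI : Epi (H ◁ f).left := Flat.epi_of_flat_of_surjective _
        haveI : Epi (f ▷ G₀) := Over.epi_of_epi_left _
        haveI : Epi (H ◁ f) := Over.epi_of_epi_left _
        infer_instance
      rw [← cancel_epi (f ⊗ₘ f), ← Category.assoc, ← (‹IsMonHom f›).mul_hom, Category.assoc, he,
        hψm.mul_hom, ← Category.assoc, MonoidalCategory.tensorHom_comp_tensorHom, he]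
  exact ⟨Grp.mkIso' e⟩

end Groth.Agent.GaQuot
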