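import Mathlib.RingTheory.AdjoinRoot
import Mathlib.Algebra.Polynomial.Taylor
import Mathlib.Algebra.Polynomial.HasseDeriv

/-! Monic polynomials whose scheme of roots is stable under addition are additive. -/

set_option autoImplicit false

universe u

open Polynomial

namespace Groth.Agent.GaQuot

variable {k : Type u} [Field k]

theorem hasseDeriv_map {R S : Type*} [CommSemiring R] [CommSemiring S] (φ : R →+* S) (p : R[X]) (j : ℕ) :
    hasseDeriv j (p.map φ) = (hasseDeriv j p).map φ := by
  ext n
  simp [hasseDeriv_coeff]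

theorem hasseDeriv_eq_C (P : k[X]) (hP : P.Monic)
    (h : ∀ (A : Type u) [CommRing A] [Algebra k A] (a b : A), aeval a P = 0 → aeval b P = 0 → aeval (a + b) P = 0)
    (j : ℕ) (hj : 0 < j) : hasseDeriv j P = C (P.coeff j) := by
  let PB : (AdjoinRoot P)[X] := P.map (algebraMap k (AdjoinRoot P))
  have hPB : PB.Monic := hP.map _
  have e0 : aeval (AdjoinRoot.root P) P = 0 := by rw [AdjoinRoot.aeval_eq, AdjoinRoot.mk_self]
  let Bx := AdjoinRoot.root P
  have h1 : PB ∣ taylor Bx PB := by
    rw [← AdjoinRoot.mk_eq_zero]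
    have hx : aeval (algebraMap (AdjoinRoot P) (AdjoinRoot PB) Bx) P = 0 := by
      rw [aeval_algebraMap_apply, e0, map_zero]
    have hy : aeval (AdjoinRoot.root PB) P = 0 := by
      have := (AdjoinRoot.aeval_eq (R := AdjoinRoot P) (f := PB) PB).trans AdjoinRoot.mk_self
      rwa [aeval_map_algebraMap] at this
    have hxy := h _ _ _ hy hx
    rw [← AdjoinRoot.aeval_eq, taylor_apply, aeval_comp, map_add, aeval_X, aeval_C, aeval_map_algebraMap]
    exact hxy
  have h2 : taylor Bx PB = PB := by
    refine eq_of_monic_of_dvd_of_natDegree_le hPB ?_ h1 (by rw [natDegree_taylor])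
    rw [taylor_apply]
    exact hPB.comp_X_add_C Bx
  have h3 := congrArg (fun Q => Q.coeff j) h2
  simp only [taylor_coeff, PB, hasseDeriv_map, eval_map_algebraMap, coeff_map] at h3
  have h4 : P ∣ hasseDeriv j P - C (P.coeff j) := by
    rw [← AdjoinRoot.mk_eq_zero, map_sub, ← AdjoinRoot.aeval_eq, AdjoinRoot.mk_C, sub_eq_zero]
    simpa [Bx, AdjoinRoot.algebraMap_eq] using h3
  by_contra hne
  have h5 : (hasseDeriv j P - C (P.coeff j)).natDegree < P.natDegree ∨ P.natDegree = 0 := by
    rcases Nat.eq_zero_or_pos P.natDegree with hz | hz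
    · exact Or.inr hz
    · refine Or.inl (lt_of_le_of_lt (natDegree_sub_C).le (lt_of_le_of_lt (natDegree_hasseDeriv_le P j) ?_))
      omega
  rcases h5 with h5 | h5
  · exact hne (sub_eq_zero.mp (eq_zero_of_dvd_of_natDegree_lt h4 h5))
  · refine hne ?_
    rw [hP.natDegree_eq_zero] at h5
    subst h5
    rw [← C_1, hasseDeriv_C j (1 : k) hj, coeff_C, if_neg hj.ne', C_0]

theorem additive (P : k[X]) (hP : P.Monic) (h0 : P.coeff 0 = 0)
    (h : ∀ (A : Type u) [CommRing A] [Algebra k A] (a b : A), aeval a P = 0 → aeval b P = 0 → aeval (a + b) P = 0)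
    {A : Type u} [CommRing A] (φ : k →+* A) (a b : A) :
    P.eval₂ φ (a + b) = P.eval₂ φ a + P.eval₂ φ b := by
  have e : taylor a (P.map φ) = P.map φ + C ((P.map φ).eval a) := by
    ext j
    rcases Nat.eq_zero_or_pos j with rfl | hj
    · rw [taylor_coeff_zero, coeff_add, coeff_map, h0, map_zero, coeff_C_zero, zero_add]
    · rw [taylor_coeff, hasseDeriv_map, hasseDeriv_eq_C P hP h j hj, coeff_add, coeff_C, if_neg hj.ne',
        add_zero, coeff_map, Polynomial.map_C, eval_C]
  have := congrArg (eval b) e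
  rw [taylor_eval, eval_add, eval_C, eval_map, eval_map, eval_map] at this
  rw [add_comm a b, this, add_comm]

end Groth.Agent.GaQuot
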